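import Cfsg.Prelude.Def_KGroupFacts
import Cfsg.Agent.Lib.Schur.Unique

/-!
A perfect central cover with kernel as large as the bound for stem kernels of its quotient has no proper
perfect central cover.
-/

set_option autoImplicit false
set_option linter.style.haveILetI false
set_option maxHeartbeats 1000000

namespace Cfsg.Agent.HNMult

open scoped commutatorElement

universe u v

/-- A central extension of a full perfect cover splits. -/
theorem exists_section {K : Type u} {Q : Type v} [Group K] [Finite K] [Group Q] (π : K →* Q)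
    (hπ : Function.Surjective π) (hker : π.ker ≤ Subgroup.center K) (hperf : commutator K = ⊤)
    (hbound : ∀ (Γ : Type u) [Group Γ] [Finite Γ] (τ : Γ →* Q), Cfsg.IsStemExtension τ →
      Nat.card τ.ker ≤ Nat.card π.ker)
    {E : Type u} [Group E] [Finite E] (σ : E →* K) (hσ : Function.Surjective σ)
    (hc : σ.ker ≤ Subgroup.center E) : ∃ ρ : K →* E, σ.comp ρ = MonoidHom.id K := by
  set M := commutator E with hM
  have hMtop : M.map σ = ⊤ := by
    rw [hM, commutator_def, Subgroup.map_commutator, Subgroup.map_top_of_surjective σ hσ,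
      ← commutator_def, hperf]
  set s : ↥M →* K := σ.comp M.subtype with hs
  have hsurj : Function.Surjective s := fun k => by
    obtain ⟨e, he, rfl⟩ := hMtop.ge (Subgroup.mem_top k)
    exact ⟨⟨e, he⟩, rfl⟩
  have hdec : ∀ e : E, ∃ m ∈ M, m⁻¹ * e ∈ Subgroup.center E := fun e => by
    obtain ⟨m, hm, hme⟩ := hMtop.ge (Subgroup.mem_top (σ e))
    exact ⟨m, hm, hc (by rw [MonoidHom.mem_ker, map_mul, map_inv, hme, inv_mul_cancel])⟩
  have hMperf : commutator ↥M = ⊤ := by
    refine Subgroup.map_injective (Subgroup.subtype_injective M) ?_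
    rw [commutator_def, Subgroup.map_commutator, ← MonoidHom.range_eq_map, Subgroup.range_subtype]
    refine le_antisymm ?_ ?_
    · rw [hM, commutator_def]
      exact Subgroup.commutator_mono le_top le_top
    · conv_lhs => rw [hM, commutator_def]
      refine Subgroup.commutator_le.2 fun a _ b _ => ?_
      obtain ⟨m, hm, hza⟩ := hdec a
      obtain ⟨n, hn, hzb⟩ := hdec b
      have ka := Subgroup.mem_center_iff.1 hza
      have kb := Subgroup.mem_center_iff.1 hzb
      have key : ∀ z z' : E, (∀ g, g * z = z * g) → (∀ g, g * z' = z' * g) →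
          ⁅m * z, n * z'⁆ = ⁅m, n⁆ := fun z z' h h' => by
        rw [commutatorElement_def, commutatorElement_def, mul_inv_rev, mul_inv_rev]
        calc m * z * (n * z') * (z⁻¹ * m⁻¹) * (z'⁻¹ * n⁻¹) = m * (z * (n * z')) * z⁻¹ * m⁻¹ * (z'⁻¹ * n⁻¹) := by group
          _ = m * n * (z' * m⁻¹) * (z'⁻¹ * n⁻¹) := by rw [← h (n * z')]; group
          _ = m * n * m⁻¹ * n⁻¹ := by rw [← h' m⁻¹]; group
      have h1 := key _ _ ka kb
      rw [mul_inv_cancel_left, mul_inv_cancel_left] at h1
      rw [h1]
      exact Subgroup.commutator_mem_commutator hm hn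
  -- the composite is a stem extension
  have hst : Cfsg.IsStemExtension (π.comp s) := by
    refine ⟨hπ.comp hsurj, fun a ha => ?_, by rw [hMperf]; exact le_top⟩
    have hk : s a ∈ Subgroup.center K := hker (MonoidHom.mem_ker.1 ha)
    have hz : ∀ e : ↥M, a * e * a⁻¹ * e⁻¹ ∈ Subgroup.center ↥M := fun e => by
      have h1 : s (a * e * a⁻¹ * e⁻¹) = 1 := by
        rw [map_mul, map_mul, map_mul, map_inv, map_inv, ← Subgroup.mem_center_iff.1 hk (s e)]
        group
      have h2 := Subgroup.mem_center_iff.1 (hc (show ((a * e * a⁻¹ * e⁻¹ : ↥M) : E) ∈ σ.ker from h1))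
      exact Subgroup.mem_center_iff.2 fun x => Subtype.ext (h2 x)
    let f : ↥M →* ↥(Subgroup.center ↥M) := MonoidHom.mk' (fun e => ⟨_, hz e⟩) fun e e' => Subtype.ext (by
      show a * (e * e') * a⁻¹ * (e * e')⁻¹ = a * e * a⁻¹ * e⁻¹ * (a * e' * a⁻¹ * e'⁻¹)
      calc a * (e * e') * a⁻¹ * (e * e')⁻¹ = a * e * a⁻¹ * ((a * e' * a⁻¹ * e'⁻¹) * e⁻¹) := by group
        _ = a * e * a⁻¹ * (e⁻¹ * (a * e' * a⁻¹ * e'⁻¹)) := by rw [← Subgroup.mem_center_iff.1 (hz e') e⁻¹]
        _ = _ := by group)
    have hf : ∀ e, f e = 1 := fun e => by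
      have hle : commutator ↥M ≤ f.ker := by
        rw [commutator_def, Subgroup.commutator_le]
        intro x _ y _
        rw [MonoidHom.mem_ker, map_commutatorElement, commutatorElement_eq_one_iff_mul_comm]
        exact Subtype.ext (Subgroup.mem_center_iff.1 (f y).2 (f x : ↥M))
      exact hle (hMperf.ge (Subgroup.mem_top e))
    refine Subgroup.mem_center_iff.2 fun e => ?_
    have h3 : a * e * a⁻¹ * e⁻¹ = 1 := congrArg Subtype.val (hf e)
    exact (mul_inv_eq_iff_eq_mul.1 (mul_inv_eq_one.1 h3)).symm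
  have hle := hbound ↥M (π.comp s) hst
  haveI : Finite Q := Finite.of_surjective π hπ
  have hcard : Nat.card ↥M ≤ Nat.card K := by
    rw [Schur.card_cover (π.comp s) hst.1, Schur.card_cover π hπ]
    exact Nat.mul_le_mul_left _ hle
  have hinj : Function.Injective s := by
    haveI := Fintype.ofFinite ↥M
    haveI := Fintype.ofFinite K
    refine (Fintype.bijective_iff_surjective_and_card s).2 ⟨hsurj, ?_⟩ |>.1
    rw [← Nat.card_eq_fintype_card, ← Nat.card_eq_fintype_card]
    exact le_antisymm hcard (Nat.card_le_card_of_surjective s hsurj)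
  let eK : ↥M ≃* K := MulEquiv.ofBijective s ⟨hinj, hsurj⟩
  exact ⟨M.subtype.comp eK.symm.toMonoidHom, MonoidHom.ext fun k => eK.apply_symm_apply k⟩

end Cfsg.Agent.HNMult
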