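import Cfsg.Agent.Lib.HNMult.Derived
import Cfsg.Agent.Lib.HNMult.Super
import Cfsg.Agent.S2046

/-!
The commutator subgroup of the group of `x, y, z` has no proper central covers.
-/

set_option autoImplicit false
set_option maxRecDepth 100000
set_option linter.style.haveILetI false

namespace Cfsg.Agent.HNMult

open Cfsg.Agent.HN
open Cfsg.Agent.PermCert Cfsg.Agent.SporPerm

noncomputable section

/-- Central extensions of the commutator subgroup split. -/
theorem exists_section_derived (E : Type) [Group E] [Finite E] (π : E →* ↥(commutator H0))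
    (hπ : Function.Surjective π) (hc : π.ker ≤ Subgroup.center E) :
    ∃ ρ : ↥(commutator H0) →* E, π.comp ρ = MonoidHom.id ↥(commutator H0) := by
  haveI : Finite H0 := Nat.finite_of_card_ne_zero (by rw [card_H0]; norm_num)
  obtain ⟨h1, h2, h3, h4⟩ := toHS_facts
  obtain ⟨i⟩ := hs_equiv
  have hk : (i.symm.toMonoidHom.comp toHS).ker = toHS.ker := by
    ext a
    simp [MonoidHom.mem_ker]
  refine exists_section (i.symm.toMonoidHom.comp toHS) (i.symm.surjective.comp h1) ?_ h4
    (fun Γ _ _ τ hτ => ?_) π hπ hc
  · rw [hk]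
    exact h3
  · rw [hk, h2]
    obtain ⟨θ, hθ⟩ := Cfsg.Agent.S2046.result.2 Γ τ hτ
    calc Nat.card τ.ker ≤ Nat.card (Multiplicative (ZMod 2)) := Nat.card_le_card_of_surjective θ hθ
      _ = 2 := by rw [Nat.card_congr Multiplicative.toAdd, Nat.card_zmod]

end

end Cfsg.Agent.HNMult
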