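import Cfsg.Agent.Lib.HN.Cover

/-!
The commutator subgroup of the group of `x, y, z`: a perfect double cover of HS.
-/

set_option autoImplicit false
set_option maxRecDepth 100000
set_option linter.style.haveILetI false

namespace Cfsg.Agent.HNMult

open Cfsg.Agent.HN
open Cfsg.Agent.PermCert Cfsg.Agent.SporPerm
open scoped commutatorElement

noncomputable section

/-- The images of the generators in a commutative group of exponent compatible with the relators. -/
theorem gens_in_derived : hx ∈ commutator H0 ∧ hy ∈ commutator H0 := by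
  let f : H0 →* Abelianization H0 := Abelianization.of
  have hf : ∀ w ∈ relF, wv (fun l => f (g6 l)) w = 1 := fun w hw => by
    rw [← map_wv, relH6 hw, map_one]
  set a := Additive.ofMul (f hx) with ha
  set b := Additive.ofMul (f hy) with hb
  set c := Additive.ofMul (f hz) with hc
  have rel : ∀ w ∈ relF, (w.map fun l => [a, -a, b, -b, c, -c].getD l 0).sum = 0 := fun w hw => by
    suffices h : ∀ v : List ℕ, (v.map fun l => [a, -a, b, -b, c, -c].getD l 0).sum =
        Additive.ofMul (wv (fun l => f (g6 l)) v) by
      rw [h w, hf w hw]; rfl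
    intro w
    induction w with
    | nil => rfl
    | cons l w ih =>
      rw [List.map_cons, List.sum_cons, ih, wv_cons]
      show _ = Additive.ofMul (f (g6 l)) + _
      congr 1
      match l with
      | 0 | 1 | 2 | 3 | 4 | 5 => simp [g6, ha, hb, hc, map_inv]
      | _ + 6 => simp [g6]
  have e0 := rel (relF.getD 0 []) (by decide +kernel)
  have e1 := rel (relF.getD 1 []) (by decide +kernel)
  have e3 := rel (relF.getD 3 []) (by decide +kernel)
  have e4 := rel (relF.getD 4 []) (by decide +kernel)
  have e6 := rel (relF.getD 6 []) (by decide +kernel)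
  have e7 := rel (relF.getD 7 []) (by decide +kernel)
  have e9 := rel (relF.getD 9 []) (by decide +kernel)
  simp only [relF, List.getD_cons_succ, List.getD_cons_zero, List.map_cons, List.map_nil, List.sum_cons,
    List.sum_nil] at e0 e1 e3 e4 e6 e7 e9
  have h4 : (4 : ℤ) • a = 0 := by linear_combination (norm := module) e1
  have h6 : (6 : ℤ) • b = 0 := by linear_combination (norm := module) e0
  have h15 : (15 : ℤ) • b = 0 := by linear_combination (norm := module) e3
  have h8 : (8 : ℤ) • a + (8 : ℤ) • b = 0 := by linear_combination (norm := module) e4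
  have hzz : (2 : ℤ) • c = 0 := by linear_combination (norm := module) e6
  have h2 : (2 : ℤ) • a = 0 := by linear_combination (norm := module) e7 - hzz
  have hb0 : b = 0 := by linear_combination (norm := module) h15 - (h8 - (2 : ℤ) • h4) + (-1 : ℤ) • h6
  have ha0 : a = 0 := by linear_combination (norm := module) e9 - (2 : ℤ) • hzz - h2
  have mem : ∀ g, Additive.ofMul (f g) = 0 → g ∈ commutator H0 := fun g hg =>
    (QuotientGroup.eq_one_iff g).1 hg
  exact ⟨mem _ ha0, mem _ hb0⟩

theorem index_derived : (commutator H0).index = 2 ∧ commutator H0 ≤ (genGroup 7 100 hsGens).comap rep100 := by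
  haveI : Finite H0 := Nat.finite_of_card_ne_zero (by rw [card_H0]; norm_num)
  obtain ⟨hxK, hyK⟩ := gens_in_derived
  have hdec : ∀ g : H0, g ∈ commutator H0 ∨ hz * g ∈ commutator H0 := by
    intro g
    have hg : g ∈ Subgroup.closure ({hx, hy, hz} : Set H0) := closure_top.ge (Subgroup.mem_top g)
    haveI : (commutator H0).Normal := inferInstance
    have key : ∀ p q : H0, p ∈ commutator H0 → hz * q ∈ commutator H0 → hz * (p * q) ∈ commutator H0 :=
      fun p q hp hq => by
        rw [show hz * (p * q) = hz * p * hz⁻¹ * (hz * q) by group]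
        exact mul_mem (Subgroup.Normal.conj_mem inferInstance p hp hz) hq
    induction hg using Subgroup.closure_induction with
    | mem s hs =>
      rcases hs with rfl | rfl | rfl
      · exact Or.inl hxK
      · exact Or.inl hyK
      · exact Or.inr (by rw [hz_sq]; exact one_mem _)
    | one => exact Or.inl (one_mem _)
    | mul p q _ _ hp hq =>
      rcases hp with hp | hp <;> rcases hq with hq | hq
      · exact Or.inl (mul_mem hp hq)
      · exact Or.inr (key p q hp hq)
      · exact Or.inr (by rw [← mul_assoc]; exact mul_mem hp hq)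
      · refine Or.inl ?_
        rw [show p * q = hz * (hz * p) * hz⁻¹ * (hz * q) by
          rw [show hz * (hz * p) = (hz * hz) * p by group, hz_sq]; group]
        exact mul_mem (Subgroup.Normal.conj_mem inferInstance _ hp hz) hq
    | inv p _ hp =>
      rcases hp with hp | hp
      · exact Or.inl (inv_mem hp)
      · refine Or.inr ?_
        rw [show hz * p⁻¹ = hz * (hz * p)⁻¹ * hz⁻¹ * (hz * hz) by group, hz_sq, mul_one]
        exact Subgroup.Normal.conj_mem inferInstance _ (inv_mem hp) hz
  set K := (genGroup 7 100 hsGens).comap rep100 with hK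
  have hzK : hz ∉ K := z_not_hs
  have hKx : hx ∈ K := x_in_hs
  have hle : commutator H0 ≤ K := by
    rw [commutator_def, Subgroup.commutator_le]
    intro p _ q _
    have hi : K.index = 2 := by
      have hr : (genGroup 7 100 hsGens).relIndex rep100.range = K.index := by
        rw [hK, Subgroup.index_comap]
      have h1 : K.index ≠ 1 := fun h => hzK (by rw [Subgroup.index_eq_one.1 h]; exact Subgroup.mem_top _)
      have hSle := hs_le_range
      have hS : Nat.card (genGroup 7 100 hsGens) = 44352000 := hs_facts.1
      have hker : 2 ≤ Nat.card rep100.ker := Finite.one_lt_card_iff_nontrivial.2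
        ⟨⟨1, one_mem _⟩, ⟨hx ^ 2, x_sq_trivial⟩, fun h => hx_sq_ne (congrArg Subtype.val h).symm⟩
      have hmul : Nat.card H0 = Nat.card rep100.range * Nat.card rep100.ker := by
        rw [Subgroup.card_eq_card_quotient_mul_card_subgroup rep100.ker,
          Nat.card_congr (QuotientGroup.quotientKerEquivRange rep100).toEquiv]
      rw [card_H0] at hmul
      have hrange : Nat.card rep100.range ≤ 2 * 44352000 := by
        have := Nat.mul_le_mul_left (Nat.card rep100.range) hker
        omega
      have hprod := Subgroup.card_mul_index ((genGroup 7 100 hsGens).subgroupOf rep100.range)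
      rw [Nat.card_congr (Subgroup.subgroupOfEquivOfLe hSle).toEquiv, hS] at hprod
      have hrel : ((genGroup 7 100 hsGens).subgroupOf rep100.range).index = K.index := hr
      rw [hrel] at hprod
      have : K.index ≤ 2 := by omega
      have : K.index ≠ 0 := Subgroup.index_ne_zero_of_finite
      omega
    haveI := Subgroup.normal_of_index_eq_two hi
    rw [commutatorElement_def, Subgroup.mul_mem_iff_of_index_two hi, Subgroup.mul_mem_iff_of_index_two hi,
      Subgroup.mul_mem_iff_of_index_two hi, inv_mem_iff, inv_mem_iff]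
    tauto
  refine ⟨?_, hle⟩
  rw [Subgroup.index_eq_two_iff]
  refine ⟨hz, fun g => ?_⟩
  have hz' : hz ∉ commutator H0 := fun h => hzK (hle h)
  rcases hdec g with h | h
  · refine Or.inr ⟨h, fun h2 => hz' ?_⟩
    have := mul_mem (inv_mem h) h2
    rwa [inv_mul_cancel_left] at this
  · refine Or.inl ⟨?_, fun h2 => hz' ?_⟩
    · rw [show g * hz = hz⁻¹ * (hz * g) * hz by group]
      have := Subgroup.Normal.conj_mem (inferInstance : (commutator H0).Normal) _ h hz⁻¹
      rwa [inv_inv] at this
    · have := mul_mem h (inv_mem h2)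
      rwa [mul_inv_cancel_right] at this

/-- The map onto HS on 100 points. -/
def toHS : ↥(commutator H0) →* ↥(genGroup 7 100 hsGens) :=
  (rep100.comp (commutator H0).subtype).codRestrict _ fun k => index_derived.2 k.2

theorem toHS_facts : Function.Surjective toHS ∧ Nat.card toHS.ker = 2 ∧
    toHS.ker ≤ Subgroup.center ↥(commutator H0) ∧ commutator ↥(commutator H0) = ⊤ := by
  haveI : Finite H0 := Nat.finite_of_card_ne_zero (by rw [card_H0]; norm_num)
  obtain ⟨hS, hsimple⟩ := hs_facts
  haveI := hsimple
  have hperfS : commutator (genGroup 7 100 hsGens) = ⊤ := by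
    refine (Subgroup.Normal.eq_bot_or_eq_top
      (inferInstance : (commutator (genGroup 7 100 hsGens)).Normal)).resolve_left fun h => ?_
    have h1 : Subgroup.center (genGroup 7 100 hsGens) = ⊤ := eq_top_iff.2 fun a _ =>
      Subgroup.mem_center_iff.2 fun b => by
        rw [← commutatorElement_eq_one_iff_mul_comm, ← Subgroup.mem_bot, ← h]
        exact Subgroup.commutator_mem_commutator (Subgroup.mem_top b) (Subgroup.mem_top a)
    have := hS
    rw [← Subgroup.card_top, ← h1, hs_centre, Subgroup.card_bot] at this
    norm_num at this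
  have hSle : genGroup 7 100 hsGens ≤ (commutator H0).map rep100 := by
    have h1 : (commutator (genGroup 7 100 hsGens)).map (genGroup 7 100 hsGens).subtype = genGroup 7 100 hsGens := by
      rw [hperfS, ← MonoidHom.range_eq_map, Subgroup.range_subtype]
    rw [← h1, Subgroup.map_subtype_commutator, commutator_def, Subgroup.map_commutator, ← MonoidHom.range_eq_map]
    exact Subgroup.commutator_mono hs_le_range hs_le_range
  have hsurj : Function.Surjective toHS := fun s => by
    obtain ⟨k, hk, e⟩ := hSle s.2
    exact ⟨⟨k, hk⟩, Subtype.ext e⟩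
  have hKcard : Nat.card ↥(commutator H0) = 88704000 := by
    have := Subgroup.card_mul_index (commutator H0)
    rw [index_derived.1, card_H0] at this
    omega
  have hker : Nat.card toHS.ker = 2 := by
    have h := Subgroup.card_eq_card_quotient_mul_card_subgroup toHS.ker
    rw [hKcard, Nat.card_congr (QuotientGroup.quotientKerEquivOfSurjective toHS hsurj).toEquiv, hS] at h
    omega
  have hxx : hx ^ 2 ∈ commutator H0 := Subgroup.pow_mem _ gens_in_derived.1 2
  have hX : (⟨hx ^ 2, hxx⟩ : ↥(commutator H0)) ∈ toHS.ker := Subtype.ext x_sq_trivial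
  have hkeq : ∀ k ∈ toHS.ker, k = 1 ∨ k = ⟨hx ^ 2, hxx⟩ := by
    intro k hk
    obtain ⟨p, q, hpq, huniv⟩ := Nat.card_eq_two_iff.1 hker
    have m : ∀ b : toHS.ker, b = p ∨ b = q := fun b => by
      have : b ∈ ({p, q} : Set toHS.ker) := huniv ▸ Set.mem_univ b
      simpa using this
    have hne : (⟨_, hX⟩ : toHS.ker) ≠ 1 := fun h => hx_sq_ne (congrArg (fun b : toHS.ker => ((b : ↥(commutator H0)) : H0)) h)
    rcases m ⟨k, hk⟩ with h1 | h1 <;> rcases m 1 with h2 | h2 <;> rcases m ⟨_, hX⟩ with h3 | h3
    all_goals first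
      | exact Or.inl (congrArg Subtype.val (h1.trans h2.symm))
      | exact Or.inr (congrArg Subtype.val (h1.trans h3.symm))
      | exact absurd (h3.trans h2.symm) hne
  refine ⟨hsurj, hker, fun k hk => ?_, ?_⟩
  · refine Subgroup.mem_center_iff.2 fun g => ?_
    rcases hkeq k hk with rfl | rfl
    · rw [mul_one, one_mul]
    · exact Subtype.ext (Subgroup.mem_center_iff.1 hx_sq_central g)
  · set M := commutator ↥(commutator H0)
    have hMmap : M.map toHS = ⊤ := by
      rw [show M = ⁅(⊤ : Subgroup ↥(commutator H0)), (⊤ : Subgroup ↥(commutator H0))⁆ from commutator_def _,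
        Subgroup.map_commutator,
        Subgroup.map_top_of_surjective toHS hsurj, ← commutator_def, hperfS]
    have hmod : ∀ k, ∃ m ∈ M, k = m ∨ k = m * ⟨hx ^ 2, hxx⟩ := fun k => by
      obtain ⟨m, hm, e⟩ := hMmap.ge (Subgroup.mem_top (toHS k))
      have : m⁻¹ * k ∈ toHS.ker := by rw [MonoidHom.mem_ker, map_mul, map_inv, e, inv_mul_cancel]
      rcases hkeq _ this with h | h
      · exact ⟨m, hm, Or.inl (inv_mul_eq_one.1 h).symm⟩
      · exact ⟨m, hm, Or.inr (by rw [← h, mul_inv_cancel_left])⟩
    have hXM : (⟨hx ^ 2, hxx⟩ : ↥(commutator H0)) ∈ M := by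
      obtain ⟨m, hm, h | h⟩ := hmod ⟨hx, gens_in_derived.1⟩
      · have := mul_mem hm hm
        rw [← h] at this
        rwa [show (⟨hx ^ 2, hxx⟩ : ↥(commutator H0)) = ⟨hx, gens_in_derived.1⟩ * ⟨hx, gens_in_derived.1⟩ from
          Subtype.ext (sq hx)]
      · have e : (⟨hx ^ 2, hxx⟩ : ↥(commutator H0)) = m * m := by
          have hc : Commute (⟨hx ^ 2, hxx⟩ : ↥(commutator H0)) m :=
            Subtype.ext (Subgroup.mem_center_iff.1 hx_sq_central _).symm
          have hs : (⟨hx ^ 2, hxx⟩ : ↥(commutator H0)) = ⟨hx, gens_in_derived.1⟩ * ⟨hx, gens_in_derived.1⟩ :=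
            Subtype.ext (sq hx)
          have hord : (⟨hx ^ 2, hxx⟩ : ↥(commutator H0)) * ⟨hx ^ 2, hxx⟩ = 1 := Subtype.ext (by
            show hx ^ 2 * hx ^ 2 = 1
            rw [← pow_add, hx_pow_four])
          conv_lhs => rw [hs, h]
          calc m * ⟨hx ^ 2, hxx⟩ * (m * ⟨hx ^ 2, hxx⟩) = m * ((⟨hx ^ 2, hxx⟩ : ↥(commutator H0)) * m) * ⟨hx ^ 2, hxx⟩ := by group
            _ = m * m * (⟨hx ^ 2, hxx⟩ * ⟨hx ^ 2, hxx⟩) := by rw [hc.eq]; group
            _ = m * m := by rw [hord, mul_one]
        rw [e]
        exact mul_mem hm hm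
    exact eq_top_iff.2 fun k _ => by
      obtain ⟨m, hm, rfl | rfl⟩ := hmod k
      exacts [hm, mul_mem hm hXM]

end

end Cfsg.Agent.HNMult
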