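import Cfsg.Agent.Lib.HN.Presentation
import Cfsg.Agent.Lib.HNMult.Super

/-!
Stem extensions of the presented Harada-Norton group are trivial, given that the commutator subgroup of the group
of `x, y, z` contains `x, y`, is perfect and has only split central extensions.
-/

set_option autoImplicit false
set_option maxRecDepth 100000
set_option linter.style.haveILetI false

namespace Cfsg.Agent.HNMult

open Cfsg.Agent.HN
open scoped commutatorElement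

noncomputable section

/-- The commutator subgroup of the group of `x, y, z`. -/
abbrev K0 : Subgroup H0 := commutator H0

variable (hxK : hx ∈ K0) (hyK : hy ∈ K0) (hperf : commutator ↥K0 = ⊤)
  (hsec : ∀ (E : Type) [Group E] [Finite E] (π : E →* ↥K0), Function.Surjective π →
    π.ker ≤ Subgroup.center E → ∃ ρ : ↥K0 →* E, π.comp ρ = MonoidHom.id ↥K0)

/-- Conjugation by `z` on the commutator subgroup. -/
def zc (k : ↥K0) : ↥K0 :=
  ⟨hz * k * hz⁻¹, (inferInstance : (commutator H0).Normal).conj_mem _ k.2 hz⟩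

theorem relF_even : ∀ w ∈ relF, (w.countP fun l => l == 4 || l == 5) % 2 = 0 ∧ w.all (fun l => l < 6) = true := by
  decide +kernel

include hxK hyK hperf hsec

/-- Every finite stem extension is trivial. -/
theorem ker_eq_bot {Γ : Type} [Group Γ] [Finite Γ] (σ : Γ →* Cfsg.Spor.HN) (hσ : Cfsg.IsStemExtension σ)
    [Finite H0] : σ.ker = ⊥ := by
  obtain ⟨hs, hz', hk⟩ := hσ
  have cen : ∀ {a : Γ}, σ a = 1 → ∀ g, g * a = a * g := fun ha => Subgroup.mem_center_iff.1 (hz' ha)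
  -- the lift on the commutator subgroup
  let P : Subgroup (Γ × ↥K0) :=
    (σ.comp (MonoidHom.fst Γ ↥K0)).eqLocus ((psiHN.comp K0.subtype).comp (MonoidHom.snd Γ ↥K0))
  have hP : ∀ q : Γ × ↥K0, q ∈ P ↔ σ q.1 = psiHN q.2 := fun _ => Iff.rfl
  let π : ↥P →* ↥K0 := (MonoidHom.snd Γ ↥K0).comp P.subtype
  have hπs : Function.Surjective π := fun k => by
    obtain ⟨g, hg⟩ := hs (psiHN k)
    exact ⟨⟨(g, k), hg⟩, rfl⟩
  have hπc : π.ker ≤ Subgroup.center ↥P := fun a ha => by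
    have h2 : (a : Γ × ↥K0).2 = 1 := ha
    have h1 : σ (a : Γ × ↥K0).1 = 1 := by rw [(hP a).1 a.2, h2]; exact map_one _
    refine Subgroup.mem_center_iff.2 fun b => Subtype.ext (Prod.ext (cen h1 _) ?_)
    show (b : Γ × ↥K0).2 * (a : Γ × ↥K0).2 = (a : Γ × ↥K0).2 * (b : Γ × ↥K0).2
    rw [h2, mul_one, one_mul]
  obtain ⟨r, hr⟩ := hsec ↥P π hπs hπc
  let ρ : ↥K0 →* Γ := (MonoidHom.fst Γ ↥K0).comp (P.subtype.comp r)
  have hρ : ∀ k, σ (ρ k) = psiHN k := fun k => by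
    have e := (hP _).1 (r k).2
    have e2 : ((r k : ↥P) : Γ × ↥K0).2 = k := DFunLike.congr_fun hr k
    rw [e2] at e
    exact e
  obtain ⟨ex, ey, ez⟩ := psiHN_gens
  obtain ⟨T0, hT0⟩ := hs tHN
  obtain ⟨Z0, hZ0⟩ := hs (psiHN hz)
  set X := ρ ⟨hx, hxK⟩ with hX
  set Y := ρ ⟨hy, hyK⟩ with hY
  have R := rulesHN
  have σX : σ X = psiHN hx := hρ _
  have σY : σ Y = psiHN hy := hρ _
  -- normalise the lift of t
  obtain ⟨u, hu⟩ : ∃ u', u' = T0 ^ 5 := ⟨_, rfl⟩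
  obtain ⟨e, he⟩ : ∃ e', e' = X⁻¹ * T0 * X * T0 ^ 2 := ⟨_, rfl⟩
  have hu1 : σ u = 1 := by rw [hu, map_pow, hT0, R.pow5]
  have he1 : σ e = 1 := by rw [he, map_mul, map_mul, map_mul, map_inv, map_pow, hT0, σX, R.conjx]
  have hue : u ^ 3 = e ^ 5 := by
    have h1 : X⁻¹ * T0 * X = e * (T0 ^ 2)⁻¹ := by rw [he, mul_inv_cancel_right]
    have h2 : (X⁻¹ * T0 * X) ^ 5 = X⁻¹ * u * X := by
      simpa only [hu, inv_inv] using conj_pow (i := 5) (a := X⁻¹) (b := T0)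
    have hce : Commute e (T0 ^ 2)⁻¹ := (cen he1 _).symm
    rw [h1, hce.mul_pow, inv_pow, ← pow_mul, mul_assoc, ← cen hu1 X, inv_mul_cancel_left] at h2
    calc u ^ 3 = u * u ^ 2 := by rw [pow_succ']
      _ = e ^ 5 * (T0 ^ 10)⁻¹ * u ^ 2 := by rw [h2]
      _ = e ^ 5 := by rw [hu, ← pow_mul, mul_assoc, inv_mul_cancel, mul_one]
  obtain ⟨w, hw⟩ : ∃ w', w' = u ^ 2 * (e ^ 3)⁻¹ := ⟨_, rfl⟩
  have hw1 : σ w⁻¹ = 1 := by rw [map_inv, hw, map_mul, map_inv, map_pow, map_pow, hu1, he1]; simp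
  have hcue : Commute u e := (cen he1 u)
  have w5 : w ^ 5 = u := by
    rw [hw, ((hcue.pow_pow 2 3).inv_right).mul_pow, inv_pow, ← pow_mul, ← pow_mul,
      show 3 * 5 = 5 * 3 by norm_num, pow_mul e, ← hue, ← pow_mul]
    rw [mul_inv_eq_iff_eq_mul, ← pow_succ']
  have w3 : w ^ 3 = e := by
    rw [hw, ((hcue.pow_pow 2 3).inv_right).mul_pow, inv_pow, ← pow_mul, ← pow_mul, show 2 * 3 = 3 * 2 by norm_num,
      pow_mul u, hue, ← pow_mul, mul_inv_eq_iff_eq_mul, ← pow_succ']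
  obtain ⟨T, hT⟩ : ∃ T', T' = T0 * w⁻¹ := ⟨_, rfl⟩
  have σT : σ T = tHN := by rw [hT, map_mul, hT0, hw1, mul_one]
  have hcT : Commute T0 w⁻¹ := cen hw1 T0
  have T5 : T ^ 5 = 1 := by rw [hT, hcT.mul_pow, inv_pow, w5, ← hu, mul_inv_cancel]
  have Tx : X⁻¹ * T * X * T ^ 2 = 1 := by
    calc X⁻¹ * T * X * T ^ 2 = X⁻¹ * T0 * (w⁻¹ * X) * (T0 ^ 2 * (w⁻¹) ^ 2) := by
          rw [hT, hcT.mul_pow]; group
      _ = X⁻¹ * T0 * X * (w⁻¹ * T0 ^ 2) * (w⁻¹) ^ 2 := by rw [← cen hw1 X]; group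
      _ = e * (w ^ 3)⁻¹ := by rw [← cen hw1 (T0 ^ 2), he]; group
      _ = 1 := by rw [w3, mul_inv_cancel]
  -- t commutes with y
  have hY6 : Y ^ 6 = 1 := by
    rw [hY, ← map_pow]
    refine (congrArg ρ (Subtype.ext ?_)).trans (map_one ρ)
    have := relH6 (w := [2, 2, 2, 2, 2, 2]) (by decide +kernel)
    simpa [wv, g6, pow_succ, mul_assoc] using this
  have TY : Commute T Y := by
    set f := Y⁻¹ * T * Y * T⁻¹ with hf
    have hf1 : σ f = 1 := by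
      rw [hf, map_mul, map_mul, map_mul, map_inv, map_inv, σT, σY, mul_assoc (psiHN hy)⁻¹, R.commy.eq]
      group
    have h5 : f ^ 5 = 1 := by
      have h1 : Y⁻¹ * T * Y = f * T := by rw [hf, inv_mul_cancel_right]
      have h2 : (Y⁻¹ * T * Y) ^ 5 = Y⁻¹ * T ^ 5 * Y := by simpa only [inv_inv] using conj_pow (i := 5) (a := Y⁻¹) (b := T)
      have hc : Commute f T := (cen hf1 T).symm
      rw [h1, hc.mul_pow, T5, mul_one, mul_one, inv_mul_cancel] at h2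
      exact h2
    have h6 : f ^ 6 = 1 := by
      have h1 : T * Y * T⁻¹ = Y * f := by rw [hf]; group
      have h2 : (T * Y * T⁻¹) ^ 6 = T * Y ^ 6 * T⁻¹ := conj_pow
      have hc : Commute Y f := cen hf1 Y
      rw [h1, hc.mul_pow, hY6, one_mul, mul_one, mul_inv_cancel] at h2
      exact h2
    rw [pow_succ, h5, one_mul, hf] at h6
    show T * Y = Y * T
    calc T * Y = Y * (Y⁻¹ * T * Y * T⁻¹) * T := by group
      _ = Y * T := by rw [h6, mul_one]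
  -- x squared inverts t and commutes with the lift of z
  have Tinv : (X ^ 2)⁻¹ * T * X ^ 2 = T⁻¹ := by
    have h1 : X⁻¹ * T * X = (T ^ 2)⁻¹ := eq_inv_of_mul_eq_one_left Tx
    calc (X ^ 2)⁻¹ * T * X ^ 2 = X⁻¹ * (X⁻¹ * T * X) * X := by rw [pow_two]; group
      _ = (X⁻¹ * T * X)⁻¹ * (X⁻¹ * T * X)⁻¹ := by (conv_lhs => rw [h1]); group
      _ = T ^ 5 * T⁻¹ := by rw [h1]; group
      _ = T⁻¹ := by rw [T5, one_mul]
  have conjZ : ∀ (Z : Γ), σ Z = psiHN hz → ∀ k, Z * ρ k * Z⁻¹ = ρ (zc k) := by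
    intro Z hZ
    let f : ↥K0 →* Γ := (MulAut.conj Z).toMonoidHom.comp ρ
    let c : ↥K0 →* ↥K0 := MonoidHom.mk' zc fun a b => Subtype.ext (by
      show hz * ((a : H0) * b) * hz⁻¹ = hz * a * hz⁻¹ * (hz * b * hz⁻¹)
      group)
    obtain ⟨χ, h1, -, h3⟩ := Schur.exists_ratio σ hz' f (ρ.comp c) (MonoidHom.ext fun k => by
      show σ (Z * ρ k * Z⁻¹) = σ (ρ (zc k))
      rw [map_mul, map_mul, map_inv, hZ, hρ, hρ]
      exact (map_inv psiHN hz) ▸ ((map_mul psiHN _ _).trans (by rw [map_mul])).symm)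
    intro k
    have h := h1 k
    rw [MonoidHom.mem_ker.1 (h3 (hperf.ge (Subgroup.mem_top k))), mul_one] at h
    exact h
  have hX2 : ∀ (Z : Γ), σ Z = psiHN hz → Commute Z (X ^ 2) := fun Z hZ => by
    have h := conjZ Z hZ (⟨hx, hxK⟩ ^ 2)
    rw [show zc (⟨hx, hxK⟩ ^ 2) = ⟨hx, hxK⟩ ^ 2 from Subtype.ext (by
      show hz * hx ^ 2 * hz⁻¹ = hx ^ 2
      rw [← hx_sq_comm_z.eq, mul_inv_cancel_right]), map_pow, ← hX] at h
    exact mul_inv_eq_iff_eq_mul.1 h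
  obtain ⟨c, hc⟩ : ∃ c', c' = Z0 * Z0 := ⟨_, rfl⟩
  obtain ⟨d, hd⟩ : ∃ d', d' = (Z0 * T) ^ 3 := ⟨_, rfl⟩
  have hc1 : σ c = 1 := by rw [hc, map_mul, hZ0, ← map_mul, hz_sq, map_one]
  have hd1 : σ d = 1 := by rw [hd, map_pow, map_mul, hZ0, σT, R.cube]
  have hdc : d ^ 2 = c ^ 3 := by
    have h1 : (Z0 * T⁻¹) ^ 3 = d := by
      have h2 : ((X ^ 2)⁻¹ * (Z0 * T) * X ^ 2) ^ 3 = (X ^ 2)⁻¹ * d * X ^ 2 := by
        simpa only [hd, inv_inv] using conj_pow (i := 3) (a := (X ^ 2)⁻¹) (b := Z0 * T)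
      have h3 : (X ^ 2)⁻¹ * (Z0 * T) * X ^ 2 = Z0 * T⁻¹ := by
        calc (X ^ 2)⁻¹ * (Z0 * T) * X ^ 2 = ((X ^ 2)⁻¹ * Z0) * T * X ^ 2 := by group
          _ = Z0 * ((X ^ 2)⁻¹ * T * X ^ 2) := by rw [← (hX2 Z0 hZ0).inv_right.eq]; group
          _ = _ := by rw [Tinv]
      rw [h3, mul_assoc, ← cen hd1 (X ^ 2), inv_mul_cancel_left] at h2
      exact h2
    have h4 : (T⁻¹ * Z0) ^ 3 = d := by
      have h2 : (Z0⁻¹ * (Z0 * T⁻¹) * Z0) ^ 3 = Z0⁻¹ * d * Z0 := by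
        simpa only [h1, inv_inv] using conj_pow (i := 3) (a := Z0⁻¹) (b := Z0 * T⁻¹)
      rw [inv_mul_cancel_left, mul_assoc, ← cen hd1 Z0, inv_mul_cancel_left] at h2
      exact h2
    have h5 : (T⁻¹ * Z0⁻¹) ^ 3 = d⁻¹ := by
      rw [← mul_inv_rev, inv_pow, hd]
    have hzi : T⁻¹ * Z0⁻¹ = T⁻¹ * Z0 * c⁻¹ := by rw [hc]; group
    have hcc : Commute (T⁻¹ * Z0) c⁻¹ := Commute.inv_right (cen hc1 _)
    rw [hzi, hcc.mul_pow, h4, inv_pow, mul_inv_eq_iff_eq_mul] at h5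
    calc d ^ 2 = d * d := pow_two d
      _ = d * (d⁻¹ * c ^ 3) := by rw [← h5]
      _ = _ := mul_inv_cancel_left _ _
  obtain ⟨a, ha⟩ : ∃ a', a' = c * d⁻¹ := ⟨_, rfl⟩
  have ha1 : σ a = 1 := by rw [ha, map_mul, map_inv, hc1, hd1, inv_one, one_mul]
  obtain ⟨Z, hZd⟩ : ∃ Z', Z' = Z0 * a := ⟨_, rfl⟩
  have σZ : σ Z = psiHN hz := by rw [hZd, map_mul, hZ0, ha1, mul_one]
  have hca : Commute c d⁻¹ := Commute.inv_right (cen hd1 c)
  have Z2 : Z * Z = 1 := by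
    calc Z * Z = Z0 * (a * Z0) * a := by rw [hZd]; group
      _ = c * (a * a) := by rw [← cen ha1 Z0, hc]; group
      _ = c * (c ^ 2 * (d ^ 2)⁻¹) := by rw [← pow_two, ha, hca.mul_pow, inv_pow]
      _ = 1 := by rw [hdc]; group
  have ZT : (Z * T) ^ 3 = 1 := by
    have h : Commute (Z0 * T) a := cen ha1 _
    rw [show Z * T = Z0 * T * a by rw [hZd, mul_assoc, mul_assoc, cen ha1 T], h.mul_pow, ← hd, ha, hca.mul_pow,
      inv_pow]
    calc d * (c ^ 3 * (d ^ 3)⁻¹) = d * (d ^ 2 * (d ^ 3)⁻¹) := by rw [hdc]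
      _ = 1 := by group
  -- the relators of x, y, z
  let G6 : ℕ → Γ := fun l => [X, X⁻¹, Y, Y⁻¹, Z, Z⁻¹].getD l 1
  have Zi : Z⁻¹ = Z := inv_eq_of_mul_eq_one_right Z2
  have key : ∀ w : List ℕ, (∀ l ∈ w, l < 6) → ∃ k : ↥K0,
      wv g6 w = (k : H0) * hz ^ (w.countP fun l => l == 4 || l == 5) ∧
      wv G6 w = ρ k * Z ^ (w.countP fun l => l == 4 || l == 5) := by
    intro w hw
    induction w with
    | nil => exact ⟨1, by simp [wv], by simp [wv]⟩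
    | cons l w ih =>
      obtain ⟨k, h1, h2⟩ := ih fun m hm => hw m (List.mem_cons_of_mem _ hm)
      have hl : l < 6 := hw l List.mem_cons_self
      have plain : ∀ q : ↥K0, (l == 4 || l == 5) = false → g6 l = q → G6 l = ρ q → ∃ k : ↥K0,
          wv g6 (l :: w) = (k : H0) * hz ^ ((l :: w).countP fun l => l == 4 || l == 5) ∧
          wv G6 (l :: w) = ρ k * Z ^ ((l :: w).countP fun l => l == 4 || l == 5) := fun q hq e1 e2 => by
        refine ⟨q * k, ?_, ?_⟩ <;> rw [wv_cons, List.countP_cons, hq]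
        · simp only [Bool.false_eq_true, if_false, add_zero, e1, h1, Subgroup.coe_mul, mul_assoc]
        · simp only [Bool.false_eq_true, if_false, add_zero, e2, h2, map_mul, mul_assoc]
      have zed : (l == 4 || l == 5) = true → g6 l = hz → G6 l = Z → ∃ k : ↥K0,
          wv g6 (l :: w) = (k : H0) * hz ^ ((l :: w).countP fun l => l == 4 || l == 5) ∧
          wv G6 (l :: w) = ρ k * Z ^ ((l :: w).countP fun l => l == 4 || l == 5) := fun hq e1 e2 => by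
        refine ⟨zc k, ?_, ?_⟩ <;> rw [wv_cons, List.countP_cons, hq, if_pos rfl, pow_succ']
        · rw [e1, h1]
          show _ = hz * (k : H0) * hz⁻¹ * _
          group
        · rw [e2, h2, ← conjZ Z σZ k]
          group
      interval_cases l
      · exact plain ⟨hx, hxK⟩ rfl rfl rfl
      · exact plain ⟨hx, hxK⟩⁻¹ rfl rfl (map_inv ρ _).symm
      · exact plain ⟨hy, hyK⟩ rfl rfl rfl
      · exact plain ⟨hy, hyK⟩⁻¹ rfl rfl (map_inv ρ _).symm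
      · exact zed rfl rfl rfl
      · exact zed rfl hz_inv Zi
  have hrel : ∀ w ∈ relF, wv G6 w = 1 := fun w hw => by
    obtain ⟨hev, hlt⟩ := relF_even w hw
    simp only [List.all_eq_true, decide_eq_true_eq] at hlt
    obtain ⟨k, h1, h2⟩ := key w hlt
    obtain ⟨n, hn⟩ := Nat.dvd_of_mod_eq_zero hev
    rw [hn, pow_mul, pow_two, hz_sq, one_pow, mul_one, relH6 hw] at h1
    rw [hn, pow_mul, pow_two, Z2, one_pow, mul_one, show k = 1 from Subtype.ext h1.symm, map_one] at h2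
    exact h2
  let img : Fin 3 → Γ := ![X, Y, Z]
  have himg : ∀ l, FreeGroup.lift img (fgen6 l) = G6 l := fun l => by
    match l with
    | 0 | 1 | 2 | 3 | 4 | 5 => simp [fgen6, G6, img]
    | _ + 6 => simp [fgen6, G6]
  let ψ : H0 →* Γ := PresentedGroup.toGroup (f := img) (by
    rintro q ⟨w, hw, rfl⟩
    rw [map_wv, funext himg]
    exact hrel w hw)
  have ψg : ψ hx = X ∧ ψ hy = Y ∧ ψ hz = Z :=
    ⟨PresentedGroup.toGroup.of _, PresentedGroup.toGroup.of _, PresentedGroup.toGroup.of _⟩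
  have hR : GRules ψ T := ⟨T5, by rw [ψg.1]; exact Tx, by rw [ψg.2.1]; exact TY, by rw [ψg.2.2]; exact ZT⟩
  have hsec2 : ∀ g, σ (outHN hR g) = g := fun g => by
    have h : σ.comp (outHN hR) = MonoidHom.id _ := PresentedGroup.ext fun i => by
      cases i <;> simp only [MonoidHom.comp_apply, MonoidHom.id_apply, outHN, PresentedGroup.toGroup.of, genOut]
      · rw [ψg.1, σX, ex]
      · rw [ψg.2.1, σY, ey]
      · rw [ψg.2.2, σZ, ez]
      · exact σT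
    exact DFunLike.congr_fun h g
  have hcom : commutator Γ ≤ (outHN hR).range := by
    rw [commutator_def, Subgroup.commutator_le]
    intro g₁ _ g₂ _
    have dec : ∀ g : Γ, ∃ m, σ m = 1 ∧ g = outHN hR (σ g) * m := fun g =>
      ⟨(outHN hR (σ g))⁻¹ * g, by rw [map_mul, map_inv, hsec2, inv_mul_cancel], (mul_inv_cancel_left _ _).symm⟩
    obtain ⟨m, hm, e1⟩ := dec g₁
    obtain ⟨n, hn, e2⟩ := dec g₂
    set p := outHN hR (σ g₁)
    set q := outHN hR (σ g₂)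
    refine ⟨⁅σ g₁, σ g₂⁆, ?_⟩
    rw [map_commutatorElement]
    show ⁅p, q⁆ = ⁅g₁, g₂⁆
    conv_rhs => rw [e1, e2]
    rw [commutatorElement_def, commutatorElement_def, mul_inv_rev, mul_inv_rev]
    calc p * q * p⁻¹ * q⁻¹ = p * q * p⁻¹ * (n * n⁻¹) * q⁻¹ := by group
      _ = p * q * (n * p⁻¹) * (n⁻¹ * q⁻¹) := by rw [← cen hn p⁻¹]; group
      _ = p * (m * (q * n)) * m⁻¹ * p⁻¹ * (n⁻¹ * q⁻¹) := by rw [← cen hm (q * n)]; group
      _ = p * m * (q * n) * (m⁻¹ * p⁻¹) * (n⁻¹ * q⁻¹) := by group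
  refine eq_bot_iff.2 fun a ha => Subgroup.mem_bot.2 ?_
  obtain ⟨g, rfl⟩ := hcom (hk ha)
  rw [MonoidHom.mem_ker, hsec2] at ha
  rw [ha, map_one]

end

end Cfsg.Agent.HNMult
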